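import Groth.Prelude.Def_AffAlg
import Mathlib.AlgebraicGeometry.Gluing
import Mathlib.AlgebraicGeometry.PullbackCarrier

/-!
# Morphisms into a scheme affine over the base are maps of algebras
-/

noncomputable section

universe u

open CategoryTheory CategoryTheory.Limits AlgebraicGeometry TopologicalSpace Opposite

namespace Groth.Agent.Lib.AffAlgBij

variable {X Y S : Scheme.{u}} {f : X ⟶ S} {g : Y ⟶ S}

theorem exists_hom_of_appTop {T V : Scheme.{u}} [IsAffine V] (φ : Γ(V, ⊤) ⟶ Γ(T, ⊤)) :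
    ∃ k : T ⟶ V, k.appTop = φ := by
  refine ⟨T.toSpecΓ ≫ Spec.map φ ≫ V.isoSpec.inv, ?_⟩
  have h : (T.toSpecΓ ≫ Spec.map φ ≫ V.isoSpec.inv) ≫ V.toSpecΓ = T.toSpecΓ ≫ Spec.map φ := by
    simp only [Category.assoc, ← Scheme.isoSpec_hom, Iso.inv_hom_id, Category.comp_id]
  have h2 := congrArg Scheme.Hom.appTop h
  simp only [Scheme.Hom.comp_appTop, Scheme.toSpecΓ_appTop, Scheme.ΓSpecIso_naturality] at h2 ⊢
  rw [← cancel_epi (Scheme.ΓSpecIso Γ(V, ⊤)).hom]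
  exact h2

theorem le_preimage (h : Y ⟶ X) (w : h ≫ f = g) (U : S.Opens) : g ⁻¹ᵁ U ≤ h ⁻¹ᵁ (f ⁻¹ᵁ U) := by
  rw [← Scheme.Hom.comp_preimage, w]

theorem algHom_app (h : Y ⟶ X) (w : h ≫ f = g) (U : S.Opens) :
    (AffAlg.algHom f g h w).app (op U) = h.appLE (f ⁻¹ᵁ U) (g ⁻¹ᵁ U) (le_preimage h w U) := by
  subst w
  simp only [AffAlg.algHom, eqToHom_refl, Category.comp_id, Scheme.Hom.appLE]
  erw [CategoryTheory.Functor.map_id, Category.comp_id]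
  rfl

/-- The restriction over `U`, on global sections. -/
theorem resLE_appTop_of_algHom (h : Y ⟶ X) (w : h ≫ f = g) (U : S.Opens) :
    (h.resLE (f ⁻¹ᵁ U) (g ⁻¹ᵁ U) (le_preimage h w U)).appTop =
      (f ⁻¹ᵁ U).topIso.hom ≫ (AffAlg.algHom f g h w).app (op U) ≫ (g ⁻¹ᵁ U).topIso.inv := by
  rw [algHom_app]
  exact Scheme.Hom.resLE_app_top _ _

theorem homOfLE_appTop {Z : Scheme.{u}} {U V : Z.Opens} (h : U ≤ V) :
    V.topIso.inv ≫ (Z.homOfLE h).appTop = Z.presheaf.map (homOfLE h).op ≫ U.topIso.inv := by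
  simp [Scheme.homOfLE_appTop, ← Functor.map_comp]
  erw [← Functor.map_comp, ← Functor.map_comp]
  rfl

theorem injective [IsAffineHom f] : Function.Injective (AffAlg.algOf f g) := by
  rintro ⟨h₁, w₁⟩ ⟨h₂, w₂⟩ he
  refine Subtype.ext ?_
  have he' : AffAlg.algHom f g h₁ w₁ = AffAlg.algHom f g h₂ w₂ := congrArg Subtype.val he
  have hcov : IsOpenCover fun W : S.affineOpens => g ⁻¹ᵁ W.1 := by
    refine IsOpenCover.mk (top_le_iff.1 fun y _ => ?_)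
    obtain ⟨W, hW, hyW, -⟩ := exists_isAffineOpen_mem_and_subset (x := g y) (U := (⊤ : S.Opens)) trivial
    exact Opens.mem_iSup.2 ⟨⟨W, hW⟩, hyW⟩
  refine (Y.openCoverOfIsOpenCover _ hcov).hom_ext _ _ fun W => ?_
  change (g ⁻¹ᵁ W.1).ι ≫ h₁ = (g ⁻¹ᵁ W.1).ι ≫ h₂
  rw [← Scheme.Hom.resLE_comp_ι h₁ (le_preimage h₁ w₁ W.1), ← Scheme.Hom.resLE_comp_ι h₂ (le_preimage h₂ w₂ W.1)]
  congr 1
  haveI : IsAffine (f ⁻¹ᵁ W.1 : Scheme.{u}) := W.2.preimage f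
  refine ext_of_isAffine ?_
  rw [resLE_appTop_of_algHom h₁ w₁, resLE_appTop_of_algHom h₂ w₂, he']

theorem surjective [IsAffineHom f] : Function.Surjective (AffAlg.algOf f g) := by
  rintro ⟨ω, hω⟩
  have haff : ∀ W : S.affineOpens, IsAffine (f ⁻¹ᵁ W.1 : Scheme.{u}) := fun W => W.2.preimage f
  choose k hk using fun W : S.affineOpens =>
    haveI := haff W
    exists_hom_of_appTop (T := (g ⁻¹ᵁ W.1 : Y.Opens)) (V := (f ⁻¹ᵁ W.1 : X.Opens))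
      ((f ⁻¹ᵁ W.1).topIso.hom ≫ ω.app (op W.1) ≫ (g ⁻¹ᵁ W.1).topIso.inv)
  have hres : ∀ (W V : S.affineOpens) (hVW : V.1 ≤ W.1),
      Y.homOfLE (g.preimage_mono hVW) ≫ k W = k V ≫ X.homOfLE (f.preimage_mono hVW) := by
    intro W V hVW
    haveI := haff W
    refine ext_of_isAffine ?_
    rw [Scheme.Hom.comp_appTop, Scheme.Hom.comp_appTop, hk, hk,
      ← cancel_epi (f ⁻¹ᵁ W.1).topIso.inv]
    simp only [Category.assoc, Iso.inv_hom_id_assoc]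
    rw [homOfLE_appTop, reassoc_of% homOfLE_appTop (f.preimage_mono hVW), Iso.inv_hom_id_assoc]
    have hnat := ω.naturality (homOfLE hVW).op
    exact (reassoc_of% hnat.symm) _
  have hcov : IsOpenCover fun W : S.affineOpens => g ⁻¹ᵁ W.1 := by
    refine IsOpenCover.mk (top_le_iff.1 fun y _ => ?_)
    obtain ⟨W, hW, hyW, -⟩ := exists_isAffineOpen_mem_and_subset (x := g y) (U := (⊤ : S.Opens)) trivial
    exact Opens.mem_iSup.2 ⟨⟨W, hW⟩, hyW⟩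
  let 𝒰 := Y.openCoverOfIsOpenCover _ hcov
  have hcomp : ∀ W W' : S.affineOpens, pullback.fst (g ⁻¹ᵁ W.1).ι (g ⁻¹ᵁ W'.1).ι ≫ k W ≫ (f ⁻¹ᵁ W.1).ι =
      pullback.snd (g ⁻¹ᵁ W.1).ι (g ⁻¹ᵁ W'.1).ι ≫ k W' ≫ (f ⁻¹ᵁ W'.1).ι := by
    intro W W'
    let P := pullback (g ⁻¹ᵁ W.1).ι (g ⁻¹ᵁ W'.1).ι
    let c : P ⟶ Y := pullback.fst _ _ ≫ (g ⁻¹ᵁ W.1).ι
    let B := {V : S.affineOpens // V.1 ≤ W.1 ∧ V.1 ≤ W'.1}
    have hcP : IsOpenCover fun V : B => c ⁻¹ᵁ (g ⁻¹ᵁ V.1.1) := by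
      refine IsOpenCover.mk (top_le_iff.1 fun p _ => ?_)
      have h1 : g (c p) ∈ W.1 := ((pullback.fst (g ⁻¹ᵁ W.1).ι (g ⁻¹ᵁ W'.1).ι) p).2
      have h2 : g (c p) ∈ W'.1 := by
        have : c p = (g ⁻¹ᵁ W'.1).ι ((pullback.snd (g ⁻¹ᵁ W.1).ι (g ⁻¹ᵁ W'.1).ι) p) := by
          simp only [c, pullback.condition]; rfl
        rw [this]
        exact ((pullback.snd (g ⁻¹ᵁ W.1).ι (g ⁻¹ᵁ W'.1).ι) p).2
      obtain ⟨V, hV, hpV, hVle⟩ := exists_isAffineOpen_mem_and_subset (x := g (c p)) (U := W.1 ⊓ W'.1) ⟨h1, h2⟩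
      exact Opens.mem_iSup.2 ⟨⟨⟨V, hV⟩, fun z hz => (hVle hz).1, fun z hz => (hVle hz).2⟩, hpV⟩
    refine (P.openCoverOfIsOpenCover _ hcP).hom_ext _ _ fun V => ?_
    change (c ⁻¹ᵁ (g ⁻¹ᵁ V.1.1)).ι ≫ _ = (c ⁻¹ᵁ (g ⁻¹ᵁ V.1.1)).ι ≫ _
    let d : (c ⁻¹ᵁ (g ⁻¹ᵁ V.1.1) : Scheme.{u}) ⟶ (g ⁻¹ᵁ V.1.1 : Y.Opens) := c ∣_ (g ⁻¹ᵁ V.1.1)
    have e1 : (c ⁻¹ᵁ (g ⁻¹ᵁ V.1.1)).ι ≫ pullback.fst _ _ = d ≫ Y.homOfLE (g.preimage_mono V.2.1) := by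
      rw [← cancel_mono (g ⁻¹ᵁ W.1).ι, Category.assoc, Category.assoc, Scheme.homOfLE_ι, morphismRestrict_ι]
    have e2 : (c ⁻¹ᵁ (g ⁻¹ᵁ V.1.1)).ι ≫ pullback.snd _ _ = d ≫ Y.homOfLE (g.preimage_mono V.2.2) := by
      rw [← cancel_mono (g ⁻¹ᵁ W'.1).ι, Category.assoc, Category.assoc, Scheme.homOfLE_ι, morphismRestrict_ι,
        ← pullback.condition]
    rw [reassoc_of% e1, reassoc_of% e2, reassoc_of% (hres W V.1 V.2.1), reassoc_of% (hres W' V.1 V.2.2),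
      Scheme.homOfLE_ι, Scheme.homOfLE_ι]
  let h : Y ⟶ X := 𝒰.glueMorphisms (fun W => k W ≫ (f ⁻¹ᵁ W.1).ι) hcomp
  have hh : ∀ W : S.affineOpens, (g ⁻¹ᵁ W.1).ι ≫ h = k W ≫ (f ⁻¹ᵁ W.1).ι := fun W =>
    𝒰.ι_glueMorphisms _ hcomp W
  have w : h ≫ f = g := by
    refine 𝒰.hom_ext _ _ fun W => ?_
    change (g ⁻¹ᵁ W.1).ι ≫ h ≫ f = (g ⁻¹ᵁ W.1).ι ≫ g
    rw [reassoc_of% hh W, ← morphismRestrict_ι f W.1, ← morphismRestrict_ι g W.1, ← Category.assoc]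
    congr 1
    haveI : IsAffine (W.1 : Scheme.{u}) := W.2
    refine ext_of_isAffine ?_
    rw [Scheme.Hom.comp_appTop, hk, ← Scheme.Hom.resLE_eq_morphismRestrict, ← Scheme.Hom.resLE_eq_morphismRestrict]
    have e3 := congr_app hω (op W.1)
    change f.c.app (op W.1) ≫ ω.app (op W.1) = g.c.app (op W.1) at e3
    rw [show (f.resLE W.1 (f ⁻¹ᵁ W.1) le_rfl).appTop = W.1.topIso.hom ≫ f.appLE W.1 (f ⁻¹ᵁ W.1) le_rfl ≫
        (f ⁻¹ᵁ W.1).topIso.inv from Scheme.Hom.resLE_app_top _ _,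
      show (g.resLE W.1 (g ⁻¹ᵁ W.1) le_rfl).appTop = W.1.topIso.hom ≫ g.appLE W.1 (g ⁻¹ᵁ W.1) le_rfl ≫
        (g ⁻¹ᵁ W.1).topIso.inv from Scheme.Hom.resLE_app_top _ _]
    simp only [Category.assoc, Iso.inv_hom_id_assoc, Scheme.Hom.appLE_eq_app]
    exact congrArg (W.1.topIso.hom ≫ ·) ((reassoc_of% e3) _)
  refine ⟨⟨h, w⟩, Subtype.ext ?_⟩
  change AffAlg.algHom f g h w = ω
  have hW : ∀ W : S.affineOpens, (AffAlg.algHom f g h w).app (op W.1) = ω.app (op W.1) := fun W => by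
    have e4 : h.resLE (f ⁻¹ᵁ W.1) (g ⁻¹ᵁ W.1) (le_preimage h w W.1) = k W := by
      rw [← cancel_mono (f ⁻¹ᵁ W.1).ι, Scheme.Hom.resLE_comp_ι, hh]
    have e5 := (resLE_appTop_of_algHom h w W.1).symm.trans ((congrArg Scheme.Hom.appTop e4).trans (hk W))
    rw [cancel_epi, cancel_mono] at e5
    exact e5
  refine NatTrans.ext (funext fun Uop => ?_)
  obtain ⟨U⟩ := Uop
  refine ConcreteCategory.ext_apply fun s => ?_
  let Yopens : {W : S.affineOpens // W.1 ≤ U} → Y.Opens := fun W => g ⁻¹ᵁ W.1.1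
  refine TopCat.Sheaf.eq_of_locally_eq' Y.sheaf Yopens (g ⁻¹ᵁ U) (fun W => homOfLE (g.preimage_mono W.2))
    (fun y hy => ?_) _ _ fun W => ?_
  · obtain ⟨V, hV, hyV, hVle⟩ := exists_isAffineOpen_mem_and_subset (x := g y) (U := U) hy
    exact Opens.mem_iSup.2 ⟨⟨⟨V, hV⟩, hVle⟩, hyV⟩
  · have n1 := ConcreteCategory.congr_hom ((AffAlg.algHom f g h w).naturality (homOfLE W.2).op) s
    have n2 := ConcreteCategory.congr_hom (ω.naturality (homOfLE W.2).op) s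
    rw [ConcreteCategory.comp_apply, ConcreteCategory.comp_apply] at n1 n2
    exact n1.symm.trans ((ConcreteCategory.congr_hom (hW W.1) _).trans n2)

theorem bijective [IsAffineHom f] : Function.Bijective (AffAlg.algOf f g) := ⟨injective, surjective⟩

end Groth.Agent.Lib.AffAlgBij
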